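import Cfsg.Agent.Lib.Block.ThreeDeg.Basic
import Cfsg.Agent.Lib.Char.TwoDegrees
import Cfsg.Agent.Lib.Grp.Cores
import Cfsg.Agent.Lib.Grp.Solvable
import Cfsg.Agent.Lib.Grp.FpfDual
import Mathlib.GroupTheory.SpecificGroups.ZGroup
import Mathlib.GroupTheory.IndexNormal

/-!
Solvable groups all of whose irreducible degrees are squarefree have derived length at most four.
-/

set_option autoImplicit false
set_option linter.unusedSectionVars false
set_option linter.style.haveILetI false

namespace Cfsg.Agent.Block.SqfreeDeg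

open Cfsg Cfsg.Agent Cfsg.Agent.Char Cfsg.Agent.Block Cfsg.Agent.Char.TwoDeg
open scoped commutatorElement

universe u

/-- A prime power dividing a squarefree number divides the prime. -/
theorem dvd_prime_of_squarefree {p i n : ℕ} (hp : p.Prime) (hd : p ^ i ∣ n) (hn : Squarefree n) :
    p ^ i ∣ p := by
  have h := (Squarefree.squarefree_of_dvd hd hn)
  have hi : i ≤ 1 := by
    by_contra hi
    have h2 : p * p ∣ p ^ i := by
      rw [← sq]
      exact pow_dvd_pow p (by omega)
    exact hp.ne_one (Nat.isUnit_iff.1 (h p h2))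
  exact (pow_dvd_pow p hi).trans (by rw [pow_one])

/-- A faithful `p`-group of operators on a `p'`-group with all orbits of length at most `p`. -/
theorem card_le_prime {P V : Type*} [Group P] [Finite P] [CommGroup V] {p : ℕ} [Fact p.Prime]
    (hP : IsPGroup p P) (ρ : P →* MulAut V) (hinj : Function.Injective ρ) {m : ℕ} (hm : ¬ p ∣ m)
    (hV : ∀ v : V, v ^ m = 1)
    (hst : ∀ v : V, ((MulAction.stabilizer (MulAut V) v).comap ρ).index ∣ p) :
    Nat.card P ≤ p := by
  classical
  cases nonempty_fintype P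
  have hp : p.Prime := Fact.out
  set S : V → Subgroup P := fun v => (MulAction.stabilizer (MulAut V) v).comap ρ with hS
  have hmem : ∀ v g, g ∈ S v ↔ ρ g v = v := fun v g => Iff.rfl
  have hcomm : ∀ v, commutator P ≤ S v := by
    intro v
    rcases (Nat.dvd_prime hp).1 (hst v) with h | h
    · rw [Subgroup.index_eq_one] at h
      change commutator P ≤ S v
      rw [hS]
      simp only [h]
      exact le_top
    · obtain ⟨k, hk⟩ := IsPGroup.iff_card.1 hP
      have hk0 : k ≠ 0 := by
        rintro rfl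
        have := Subgroup.index_dvd_card ((MulAction.stabilizer (MulAut V) v).comap ρ)
        rw [h, hk, pow_zero, Nat.dvd_one] at this
        exact hp.ne_one this
      haveI : (S v).Normal := Subgroup.normal_of_index_eq_minFac_card (by
        show ((MulAction.stabilizer (MulAut V) v).comap ρ).index = _
        rw [h, hk, Nat.pow_minFac hk0, hp.minFac_eq])
      rw [← Subgroup.Normal.quotient_commutative_iff_commutator_le]
      haveI : IsCyclic (P ⧸ S v) := isCyclic_of_prime_card (p := p) h
      exact ⟨⟨fun a b => (IsCyclic.commGroup (α := P ⧸ S v)).mul_comm a b⟩⟩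
  have hab : ∀ a b : P, a * b = b * a := fun a b => commutatorElement_eq_one_iff_mul_comm.1
    (hinj (by
      rw [map_one]
      refine MulEquiv.ext fun v => ?_
      exact (hmem v _).1 (hcomm v (Subgroup.commutator_mem_commutator (Subgroup.mem_top a)
        (Subgroup.mem_top b)))))
  by_cases hmove : ∃ v, S v ≠ ⊤
  swap
  · push Not at hmove
    have : Subsingleton P := ⟨fun a b => hinj (MulEquiv.ext fun v => by
      rw [(hmem v a).1 (by rw [hmove v]; trivial), (hmem v b).1 (by rw [hmove v]; trivial)])⟩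
    rw [Nat.card_unique]
    exact hp.one_lt.le
  obtain ⟨v₁, hv₁⟩ := hmove
  have hC : (S v₁).index = p :=
    ((Nat.dvd_prime hp).1 (hst v₁)).resolve_left fun h => hv₁ (Subgroup.index_eq_one.1 h)
  by_contra hlt
  obtain ⟨c, hc, hc1⟩ : ∃ c ∈ S v₁, c ≠ 1 := by
    refine (Subgroup.bot_or_exists_ne_one (S v₁)).resolve_left fun h => ?_
    rw [h, Subgroup.index_bot] at hC
    omega
  obtain ⟨w₀, hw₀⟩ : ∃ w, ρ c w ≠ w := by
    by_contra hno
    push Not at hno
    exact hc1 (hinj (by rw [map_one]; exact MulEquiv.ext hno))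
  set C := S v₁ with hCdef
  set n := Nat.card C with hn
  have hpn : Nat.Coprime n m := by
    obtain ⟨j, hj⟩ := IsPGroup.iff_card.1 (hP.to_subgroup C)
    rw [hn, hj]
    exact ((hp.coprime_iff_not_dvd.2 hm).pow_left j)
  have hroot : ∀ {x y : V}, x ^ n = y ^ n → x = y := fun {x y} h => by
    refine mul_inv_eq_one.1 (eq_one_of_pows hpn (a := x * y⁻¹) ?_ (hV _))
    rw [mul_pow, inv_pow, h, mul_inv_cancel]
  let E : V → V := fun x => ∏ u : C, ρ (u : P) x
  have hEmul : ∀ x y, E (x * y) = E x * E y := fun x y => by simp [E, Finset.prod_mul_distrib]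
  have hEfix : ∀ x, (∀ u ∈ C, ρ u x = x) → E x = x ^ n := fun x hx => by
    simp only [E]
    rw [Finset.prod_congr rfl fun (u : C) _ => hx (u : P) u.2, Finset.prod_const, Finset.card_univ,
      hn, Nat.card_eq_fintype_card]
  have hEcomm : ∀ (g : P) x, ρ g (E x) = E (ρ g x) := fun g x => by
    simp only [E, map_prod]
    refine Finset.prod_congr rfl fun u _ => ?_
    rw [← MulAut.mul_apply, ← MulAut.mul_apply, ← map_mul, ← map_mul, hab]
  have hEinv : ∀ x, ∀ u ∈ C, ρ u (E x) = E x := fun x u hu => by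
    simp only [E, map_prod]
    refine Fintype.prod_equiv (Equiv.mulLeft (⟨u, hu⟩ : C)) _ _ fun w => ?_
    rw [← MulAut.mul_apply, ← map_mul]
    rfl
  set w₁ := w₀ ^ n * (E w₀)⁻¹ with hw₁
  have hEw₁ : E w₁ = 1 := by
    have h1 : E (w₀ ^ n * (E w₀)⁻¹) * E (E w₀) = E (w₀ ^ n) := by
      rw [← hEmul, inv_mul_cancel_right]
    have h2 : E (w₀ ^ n) = E w₀ ^ n := by simp [E, Finset.prod_pow]
    rw [hEfix _ (hEinv w₀), h2] at h1
    exact mul_eq_right.1 h1
  -- whatever fixes `v₁ * w₁` fixes both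
  have hboth : S (v₁ * w₁) ≤ C ⊓ S w₁ := by
    intro g hg
    have h1 := congrArg E ((hmem _ g).1 hg)
    rw [← hEcomm, hEmul, hEw₁, mul_one, hEfix v₁ (fun u hu => (hmem v₁ u).1 hu), map_pow] at h1
    have h2 := hroot h1
    refine ⟨(hmem v₁ g).2 h2, (hmem w₁ g).2 ?_⟩
    have h3 := (hmem _ g).1 hg
    rw [map_mul, h2] at h3
    exact mul_left_cancel h3
  have hle : C ≤ S w₁ := by
    have heq : S (v₁ * w₁) = C := by
      refine le_antisymm (hboth.trans inf_le_left) ?_
      rcases (Nat.dvd_prime hp).1 (hst (v₁ * w₁)) with h | h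
      · have := hboth.trans inf_le_left
        rw [show S (v₁ * w₁) = ⊤ from Subgroup.index_eq_one.1 h, top_le_iff] at this
        exact absurd this hv₁
      · refine le_of_eq ?_
        have hle := hboth.trans (inf_le_left : C ⊓ S w₁ ≤ C)
        have h2 := Subgroup.relIndex_mul_index hle
        rw [hC, show (S (v₁ * w₁)).index = p from h] at h2
        have h3 : (S (v₁ * w₁)).relIndex C = 1 :=
          Nat.eq_of_mul_eq_mul_right hp.pos (h2.trans (one_mul p).symm)
        exact le_antisymm (Subgroup.relIndex_eq_one.1 h3) hle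
    exact heq ▸ hboth.trans inf_le_right
  have hw1 : w₁ = 1 := hroot (by rw [one_pow, ← hEfix w₁ fun u hu => (hmem w₁ u).1 (hle hu), hEw₁])
  rw [hw₁, mul_inv_eq_one] at hw1
  refine hw₀ (hroot ?_)
  rw [← map_pow, hw1, hEinv w₀ c hc]

variable {G : Type u} [Group G] [Fintype G]

/-- A coprime `q`-subgroup fixing all linear characters of a normal `r`-group centralises it. -/
theorem centralizes_of_fix (V : Subgroup G) [V.Normal] {r : ℕ} [Fact r.Prime] (hV : IsPGroup r V)
    (Q : Subgroup G) (hQ : ¬ r ∣ Nat.card Q)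
    (h : ∀ x ∈ Q, ∀ l : V →* ℂˣ, cj x l = l) : Q ≤ Subgroup.centralizer (V : Set G) := by
  set Φ := (frattini V).map V.subtype
  have hΦV : Φ ≤ V := Subgroup.map_subtype_le _
  have hle : ⁅V, Q⁆ ≤ Φ := by
    rw [Subgroup.commutator_le]
    intro v hv x hx
    set d : V := ⟨v, hv⟩ * (MulAut.conjNormal (H := V) x ⟨v, hv⟩)⁻¹ with hd
    refine ⟨d, Grp.pGroup_commutator_le_frattini hV ?_, by
      simp [hd, commutatorElement_def, mul_assoc]⟩
    have hcomm : ∀ a b : V ⧸ commutator V, a * b = b * a := fun a b =>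
      (Abelianization.commGroup V).mul_comm a b
    rw [← QuotientGroup.eq_one_iff]
    refine eq_one_of_forall_linear hcomm fun l => ?_
    have h1 := DFunLike.congr_fun (h x hx (l.comp (QuotientGroup.mk' (commutator V)))) ⟨v, hv⟩
    simp only [cj, MonoidHom.comp_apply, MulEquiv.coe_toMonoidHom, QuotientGroup.mk'_apply] at h1
    rw [hd, QuotientGroup.mk_mul, QuotientGroup.mk_inv, map_mul, map_inv, h1, mul_inv_cancel]
  have hcop : (Nat.card Q).Coprime (Nat.card V) := by
    obtain ⟨n, hn⟩ := IsPGroup.iff_card.mp hV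
    rw [hn]
    exact ((Fact.out : r.Prime).coprime_iff_not_dvd.mpr hQ).symm.pow_right n
  have hgen := Grp.commutator_sup_fixed Q V Subgroup.le_normalizer_of_normal hcop
    (Or.inr (haveI := hV.isNilpotent; inferInstance))
  have htop : (V ⊓ Subgroup.centralizer (Q : Set G)).subgroupOf V = ⊤ := by
    refine frattini_nongenerating (eq_top_iff.mpr fun w _ => ?_)
    have hw : (w : G) ∈ Φ ⊔ (V ⊓ Subgroup.centralizer (Q : Set G)) :=
      (sup_le_sup_right hle _) (hgen.ge w.2)
    have e : Φ ⊔ (V ⊓ Subgroup.centralizer (Q : Set G)) =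
        ((V ⊓ Subgroup.centralizer (Q : Set G)).subgroupOf V ⊔ frattini V).map V.subtype := by
      rw [Subgroup.map_sup, Subgroup.map_subgroupOf_eq_of_le inf_le_left, sup_comm]
    rw [e] at hw
    obtain ⟨u, hu, eu⟩ := hw
    rwa [show u = w from Subtype.ext eu] at hu
  rw [Subgroup.subgroupOf_eq_top] at htop
  exact Subgroup.le_centralizer_iff.mp (htop.trans inf_le_right)

/-- A linear character of a Sylow piece of a normal nilpotent subgroup extends. -/
theorem exists_linear_ext (F V : Subgroup G) [F.Normal] [V.Normal] (hVF : V ≤ F) {r : ℕ}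
    [Fact r.Prime] (hV : IsPGroup r V) (hidx : ¬ r ∣ V.relIndex F)
    (hcen : ∀ n ∈ F, ∀ l : V →* ℂˣ, cj n l = l) (l : V →* ℂˣ) :
    ∃ L : F →* ℂˣ, orderOf L ∣ Nat.card V ∧
      ∀ v : V, L ⟨v, hVF v.2⟩ = l v := by
  classical
  haveI := Fintype.ofFinite F
  set W := V.subgroupOf F with hW
  haveI : W.Normal := Subgroup.Normal.subgroupOf inferInstance _
  haveI := Fintype.ofFinite W
  set e := Subgroup.subgroupOfEquivOfLe hVF with he
  set θ : W → ℂ := fun w => (l (e w) : ℂ) with hθ
  have hθi : IsIrrCharacter W θ := isIrr_linear (l.comp e.toMonoidHom)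
  have hθ1 : θ 1 = ((1 : ℕ) : ℂ) := by simp [hθ]
  obtain ⟨i, hi⟩ := IsPGroup.iff_card.1 hV
  have hinv : ∀ (g : F) (w : W), θ ⟨g * w * g⁻¹,
      (inferInstance : W.Normal).conj_mem (w : F) w.2 g⟩ = θ w := fun g w => by
    have h1 := DFunLike.congr_fun (hcen g g.2 l) (e w)
    rw [cj_apply] at h1
    exact congrArg Units.val ((congrArg l (Subtype.ext rfl)).trans h1)
  have hcopI : Nat.Coprime W.index (Nat.card V) := by
    rw [hi]
    exact Nat.Coprime.pow_right i ((Fact.out : r.Prime).coprime_iff_not_dvd.2 hidx).symm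
  have hordθ : orderOf θ ∣ Nat.card V := by
    refine orderOf_dvd_of_pow_eq_one (funext fun w => ?_)
    rw [Pi.pow_apply, Pi.one_apply, hθ, ← Units.val_pow_eq_pow_val, ← map_pow, pow_card_eq_one',
      map_one, Units.val_one]
  have hord : Nat.Coprime W.index (orderOf (detChar θ) * 1) := by
    rw [mul_one, hθ, show detChar (fun w : W => (l (e w) : ℂ)) = fun w : W => (l (e w) : ℂ) from
      detChar_linear (l.comp e.toMonoidHom)]
    exact hcopI.coprime_dvd_right hordθ
  obtain ⟨χ, hχ, hres⟩ := Ext.exists_extension_of_witness hθi hinv hθ1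
    fun p hp => Ext.witness_of_coprime hθi hord hp
  obtain ⟨L₀, hL₀⟩ := linearHom_of_isCharacter (IsIrr.isCharacter hχ) (by
    rw [show (1 : F) = ((1 : W) : F) from rfl, hres, hθ1, Nat.cast_one])
  have hθL : (fun w : W => (L₀ (w : F) : ℂ)) = θ := funext fun w => by
    rw [← hres w, hL₀]
  obtain ⟨L, hL, hLo⟩ := Ext.exists_linear_adjust (N := W) L₀ rfl
    (by rw [hθL]; exact hcopI.coprime_dvd_right hordθ)
  refine ⟨L, by rw [hLo, hθL]; exact hordθ, fun v => ?_⟩
  have h1 := hL ⟨⟨v, hVF v.2⟩, v.2⟩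
  rw [h1]
  refine Units.ext ((congrFun hθL ⟨⟨v, hVF v.2⟩, v.2⟩).trans ?_)
  simp only [hθ]
  exact congrArg (fun z => (l z : ℂ)) (Subtype.ext rfl)

/-- Linear characters of normal subgroups have squarefree orbits. -/
theorem squarefree_index (h : ∀ χ : IrrCharacter G, Squarefree (charDegree (χ : G → ℂ)))
    (F : Subgroup G) [F.Normal] (l : F →* ℂˣ) : Squarefree (stabL l).index := by
  classical
  haveI := Fintype.ofFinite F
  obtain ⟨χ, hχ⟩ := exists_over F (⟨fun k => (l k : ℂ), isIrr_linear l⟩ : IrrCharacter F)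
  obtain ⟨c, hc, -⟩ := IsChar.exists_decomp_inner (IsChar.res (IsIrr.isCharacter χ.2) F)
  refine (h χ).squarefree_of_dvd ⟨c ⟨_, isIrr_linear l⟩, ?_⟩
  rw [stabL_eq_inertia]
  refine PIto.charDeg_eq ?_
  rw [clifford_one F χ.2 (isIrr_linear l) hχ, hc ⟨_, isIrr_linear l⟩]
  simp [mul_comm]

variable [Group.IsSolvable G]

/-- The `p`-core of `G ⧸ F(G)` has order at most `p`. -/
theorem card_pCore_le (h : ∀ χ : IrrCharacter G, Squarefree (charDegree (χ : G → ℂ)))
    (p : ℕ) [Fact p.Prime] [(Cfsg.fittingSubgroup G).Normal] :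
    Nat.card (Cfsg.pCore p (G ⧸ Cfsg.fittingSubgroup G)) ≤ p := by
  classical
  set F := Cfsg.fittingSubgroup G with hF
  have hp : p.Prime := Fact.out
  have hFn : Group.IsNilpotent F := Grp.fittingSubgroup_isNilpotent
  set π := QuotientGroup.mk' F with hπ
  have hπs : Function.Surjective π := QuotientGroup.mk'_surjective F
  haveI := Grp.pCore_isNormal (p := p) (G := G ⧸ F)
  set M := (Cfsg.pCore p (G ⧸ F)).comap π with hM
  haveI : M.Normal := (inferInstance : (Cfsg.pCore p (G ⧸ F)).Normal).comap π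
  have hFM : F ≤ M := fun x hx => by
    rw [hM, Subgroup.mem_comap, hπ, QuotientGroup.mk'_apply, (QuotientGroup.eq_one_iff x).2 hx]
    exact one_mem _
  set m := Nat.card F / p ^ (Nat.card F).factorization p with hm
  have hpm : ¬ p ∣ m := Nat.not_dvd_ordCompl hp Nat.card_pos.ne'
  -- the kernel on characters of `p'`-order
  have hker : ∀ x ∈ M, (∀ l : F →* ℂˣ, l ^ m = 1 → cj x l = l) → x ∈ F := by
    intro x hxM hx
    set K : Subgroup G := M ⊓ ⨅ (l : F →* ℂˣ) (_ : l ^ m = 1), stabL l with hK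
    have hxK : x ∈ K := Subgroup.mem_inf.2 ⟨hxM, by
      simp only [Subgroup.mem_iInf]
      exact fun l hl => mem_stabL.2 (hx l hl)⟩
    have hps : ∀ y ∈ K, ∀ i : ℕ, y ^ p ^ i = 1 →
        ∀ r : ℕ, r.Prime → r ≠ p → y ∈ Subgroup.centralizer (Cfsg.pCore r G : Set G) := by
      intro y hy i hi r hr hrp
      haveI := Fact.mk hr
      haveI := Grp.pCore_isNormal (p := r) (G := G)
      have hVF : Cfsg.pCore r G ≤ F := Grp.pCore_le_fittingSubgroup
      obtain ⟨j, hj⟩ := IsPGroup.iff_card.1 (Grp.pCore_isPGroup (p := r) (G := G))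
      -- the core is the Sylow subgroup of the Fitting subgroup
      have hidx : ¬ r ∣ (Cfsg.pCore r G).relIndex F := by
        obtain ⟨S⟩ : Nonempty (Sylow r F) := Sylow.nonempty
        have hSn : (S : Subgroup F).Normal := Grp.isNilpotent_iff_sylow_normal.1 hFn r inferInstance S
        haveI hSc : (S : Subgroup F).Characteristic := S.characteristic_of_normal hSn
        have hle : (S : Subgroup F).map F.subtype ≤ Cfsg.pCore r G :=
          Grp.le_pCore inferInstance (S.isPGroup'.map _)
        intro hd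
        refine S.not_dvd_index (hd.trans (Subgroup.index_dvd_of_le fun z hz => ?_))
        exact Subgroup.mem_subgroupOf.2 (hle (Subgroup.mem_map_of_mem _ hz))
      have hcen : ∀ n ∈ F, ∀ l : Cfsg.pCore r G →* ℂˣ, cj n l = l := by
        intro n hn l
        suffices hle : F ≤ F ⊓ stabL l from mem_stabL.1 (hle hn).2
        refine Grp.le_of_forall_sylow inf_le_left fun s hs => ?_
        obtain ⟨X, hX⟩ := Grp.exists_isSylowIn s F
        refine ⟨X, hX, fun z hz => ⟨hX.1 hz, mem_stabL.2 ?_⟩⟩
        obtain ⟨t, ht⟩ := hX.2.1 ⟨z, hz⟩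
        have ht' : z ^ s ^ t = 1 := congrArg Subtype.val ht
        by_cases hsr : s = r
        · subst hsr
          refine cj_mem_self ?_ l
          obtain ⟨S⟩ : Nonempty (Sylow s F) := Sylow.nonempty
          have hSn : (S : Subgroup F).Normal := Grp.isNilpotent_iff_sylow_normal.1 hFn s inferInstance S
          haveI hSc : (S : Subgroup F).Characteristic := S.characteristic_of_normal hSn
          have hzp : IsPGroup s (Subgroup.zpowers (⟨z, hX.1 hz⟩ : F)) := by
            obtain ⟨w, -, hw⟩ := (Nat.dvd_prime_pow hr).1 (orderOf_dvd_of_pow_eq_one ht')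
            exact IsPGroup.of_card (n := w) (by rw [Nat.card_zpowers, Subgroup.orderOf_mk, hw])
          obtain ⟨S', hS'⟩ := hzp.exists_le_sylow
          haveI hSn' : (S' : Subgroup F).Normal :=
            Grp.isNilpotent_iff_sylow_normal.1 hFn s inferInstance S'
          haveI : (S' : Subgroup F).Characteristic := S'.characteristic_of_normal hSn'
          exact Grp.le_pCore inferInstance (S'.isPGroup'.map _)
            (Subgroup.mem_map_of_mem F.subtype (hS' (Subgroup.mem_zpowers _)))
        · refine MonoidHom.ext fun v => ?_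
          rw [cj_apply]
          obtain ⟨w, hw⟩ := Grp.pCore_isPGroup (p := r) (G := G) v
          have hw' : (v : G) ^ r ^ w = 1 := congrArg Subtype.val hw
          have hc := congrArg Subtype.val (Grp.commute_of_nilpotent_coprime hFn hsr
            (x := (⟨z, hX.1 hz⟩ : F)) (y := ⟨v, hVF v.2⟩) (Subtype.ext ht') (Subtype.ext hw'))
          refine congrArg l (Subtype.ext ?_)
          show z * (v : G) * z⁻¹ = v
          rw [show z * (v : G) = (v : G) * z from hc, mul_inv_cancel_right]
      have hQ : ¬ r ∣ Nat.card (Subgroup.zpowers y) := by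
        rw [Nat.card_zpowers]
        intro hd
        exact hrp ((Nat.prime_dvd_prime_iff_eq hr hp).1
          (hr.dvd_of_dvd_pow (hd.trans (orderOf_dvd_of_pow_eq_one hi))))
      refine centralizes_of_fix (Cfsg.pCore r G) Grp.pCore_isPGroup _ hQ ?_ (Subgroup.mem_zpowers y)
      intro z hz l
      obtain ⟨L, hLo, hL⟩ := exists_linear_ext F (Cfsg.pCore r G) hVF Grp.pCore_isPGroup hidx hcen l
      have hVm : Nat.card (Cfsg.pCore r G) ∣ m := by
        refine Nat.Coprime.dvd_of_dvd_mul_left (m := p ^ (Nat.card F).factorization p) ?_ ?_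
        · rw [hj]
          exact Nat.Coprime.pow _ _ ((Nat.coprime_primes hr hp).2 hrp)
        · rw [Nat.ordProj_mul_ordCompl_eq_self]
          exact Subgroup.card_dvd_of_le hVF
      have hzK : z ∈ K := (Subgroup.zpowers_le.2 hy) hz
      have h1 := (Subgroup.mem_inf.1 hzK).2
      simp only [Subgroup.mem_iInf] at h1
      have h2 := mem_stabL.1 (h1 L (orderOf_dvd_iff_pow_eq_one.1 (hLo.trans hVm)))
      refine MonoidHom.ext fun v => ?_
      have h3 := DFunLike.congr_fun h2 ⟨v, hVF v.2⟩
      rw [cj_apply, hL v] at h3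
      rw [cj_apply, ← h3, ← hL]
    set D : Subgroup G := M ⊓
      ⨅ (r : ℕ) (_ : r.Prime ∧ r ≠ p), Subgroup.centralizer (Cfsg.pCore r G : Set G) with hD
    have hDn : D.Normal := by
      haveI : (⨅ (r : ℕ) (_ : r.Prime ∧ r ≠ p),
          Subgroup.centralizer (Cfsg.pCore r G : Set G)).Normal := by
        refine Subgroup.normal_iInf_normal fun r => Subgroup.normal_iInf_normal fun _ => ?_
        have := Grp.pCore_isNormal (p := r) (G := G)
        infer_instance
      infer_instance
    obtain ⟨k, hk⟩ := IsPGroup.iff_card.1 (Grp.pCore_isPGroup (p := p) (G := G ⧸ F))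
    have hMp : ∀ z ∈ M, orderOf (π z) ∣ p ^ k := fun z hz => by
      rw [← hk, ← Subgroup.orderOf_mk (H := Cfsg.pCore p (G ⧸ F)) (π z) hz]
      exact orderOf_dvd_natCard _
    have hDF : D ≤ F := Grp.le_fitting_of_centralizing (q := p) hDn
      (fun r hr hrp => le_trans inf_le_right (iInf₂_le r ⟨hr, hrp⟩)) fun s hs hsp z hz i hzi => by
        refine (QuotientGroup.eq_one_iff z).1 (orderOf_eq_one_iff.1 ?_)
        exact Nat.eq_one_of_dvd_coprimes (Nat.Coprime.pow i k ((Nat.coprime_primes hs hp).2 hsp))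
          ((orderOf_map_dvd π z).trans (orderOf_dvd_of_pow_eq_one hzi)) (hMp z (Subgroup.mem_inf.1 hz).1)
    set t := (orderOf x).factorization p
    have hxo : p ^ t * (orderOf x / p ^ t) = orderOf x := Nat.ordProj_mul_ordCompl_eq_self _ _
    have hy : x ^ (orderOf x / p ^ t) ∈ F := hDF (Subgroup.mem_inf.2 ⟨pow_mem hxM _, by
      simp only [Subgroup.mem_iInf]
      exact fun r hr => hps _ (pow_mem hxK _) t
        (by rw [← pow_mul, mul_comm, hxo, pow_orderOf_eq_one]) r hr.1 hr.2⟩)
    refine (QuotientGroup.eq_one_iff x).1 (orderOf_eq_one_iff.1 (Nat.eq_one_of_dvd_coprimes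
      (Nat.Coprime.pow_left k (hp.coprime_iff_not_dvd.2 (Nat.not_dvd_ordCompl hp (orderOf_pos x).ne')))
      (hMp x hxM) (orderOf_dvd_of_pow_eq_one ?_)))
    exact (map_pow π x _).symm.trans ((QuotientGroup.eq_one_iff _).2 hy)
  -- the action on characters of `p'`-order
  let V : Subgroup (F →* ℂˣ) := (powMonoidHom m).ker
  have hcjpow : ∀ (g : G) (l : F →* ℂˣ), (cj g l) ^ m = cj g (l ^ m) := fun g l =>
    MonoidHom.ext fun k => by simp [cj_apply]
  have hcj1 : ∀ g : G, cj g (1 : F →* ℂˣ) = 1 := fun g => MonoidHom.ext fun k => by simp [cj_apply]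
  have hVmem : ∀ (g : G) (l : V), cj g (l : F →* ℂˣ) ∈ V := fun g l => by
    show (powMonoidHom m) _ = 1
    rw [powMonoidHom_apply, hcjpow, show (l : F →* ℂˣ) ^ m = 1 from l.2, hcj1]
  let act : G → V ≃* V := fun g =>
    { toFun := fun l => ⟨cj g⁻¹ l, hVmem _ l⟩
      invFun := fun l => ⟨cj g l, hVmem _ l⟩
      left_inv := fun l => Subtype.ext (by simp [cj_cj, cj_one])
      right_inv := fun l => Subtype.ext (by simp [cj_cj, cj_one])
      map_mul' := fun a b => Subtype.ext (cj_mul _ _ _) }
  let σ : G →* MulAut V :=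
    { toFun := act
      map_one' := MulEquiv.ext fun l => Subtype.ext (by simp [act, cj_one])
      map_mul' := fun a b => MulEquiv.ext fun l => Subtype.ext (by
        show cj (a * b)⁻¹ (l : F →* ℂˣ) = cj a⁻¹ (cj b⁻¹ (l : F →* ℂˣ))
        rw [cj_cj, mul_inv_rev]) }
  have hσF : F ≤ σ.ker := fun n hn => MulEquiv.ext fun l => Subtype.ext (cj_mem_self (F.inv_mem hn) _)
  let σbar : G ⧸ F →* MulAut V := QuotientGroup.lift F σ hσF
  refine card_le_prime Grp.pCore_isPGroup (σbar.comp (Cfsg.pCore p (G ⧸ F)).subtype) ?_ hpm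
    (fun v => Subtype.ext v.2) fun v => ?_
  · refine (injective_iff_map_eq_one _).2 fun q hq => ?_
    obtain ⟨x, hx⟩ := hπs (q : G ⧸ F)
    have hxM : x ∈ M := by rw [hM, Subgroup.mem_comap, hx]; exact q.2
    have hσx : σ x = 1 := by
      rw [← hq]
      show σ x = σbar (q : G ⧸ F)
      rw [← hx]
      rfl
    have hxF : x⁻¹ ∈ F := hker _ (M.inv_mem hxM) fun l hl => congrArg Subtype.val
      (DFunLike.congr_fun hσx (⟨l, hl⟩ : V))
    refine Subtype.ext ?_
    rw [← hx]
    exact (QuotientGroup.eq_one_iff x).2 (inv_inv x ▸ F.inv_mem hxF)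
  · set T := (MulAction.stabilizer (MulAut V) v).comap σbar with hT
    have hTidx : T.index = (stabL (v : F →* ℂˣ)).index := by
      rw [← Subgroup.index_comap_of_surjective T hπs]
      congr 1
      ext g
      show act g v = v ↔ g ∈ stabL (v : F →* ℂˣ)
      rw [← inv_mem_iff (H := stabL (v : F →* ℂˣ)), mem_stabL]
      exact Subtype.ext_iff
    rw [show (MulAction.stabilizer (MulAut V) v).comap (σbar.comp (Cfsg.pCore p (G ⧸ F)).subtype) =
      T.subgroupOf (Cfsg.pCore p (G ⧸ F)) from rfl]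
    have h1 : T.relIndex (Cfsg.pCore p (G ⧸ F)) ∣ T.index := by
      set P := Cfsg.pCore p (G ⧸ F)
      obtain ⟨d, hd⟩ := Subgroup.relIndex_dvd_index_of_normal P T
      have e1 := Subgroup.relIndex_mul_index (inf_le_right : T ⊓ P ≤ P)
      have e2 := Subgroup.relIndex_mul_index (inf_le_left : T ⊓ P ≤ T)
      rw [Subgroup.inf_relIndex_right] at e1
      rw [Subgroup.inf_relIndex_left] at e2
      refine ⟨d, Nat.eq_of_mul_eq_mul_left (Nat.pos_of_ne_zero
        (fun h0 => Subgroup.index_ne_zero_of_finite (H := P.subgroupOf T) h0)) ?_⟩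
      show P.relIndex T * T.index = P.relIndex T * _
      rw [e2, ← e1, hd]
      ring
    have h2 : T.relIndex (Cfsg.pCore p (G ⧸ F)) ∣ Nat.card (Cfsg.pCore p (G ⧸ F)) :=
      Subgroup.index_dvd_card _
    obtain ⟨k, hk⟩ := IsPGroup.iff_card.1 (Grp.pCore_isPGroup (p := p) (G := G ⧸ F))
    obtain ⟨i, -, hi⟩ := (Nat.dvd_prime_pow hp).1 (hk ▸ h2)
    show T.relIndex _ ∣ p
    rw [hi]
    exact dvd_prime_of_squarefree hp (hi ▸ hTidx ▸ h1) (squarefree_index h F _)

/-- The second derived subgroup lies in the Fitting subgroup. -/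
theorem derived_two_le_fitting (h : ∀ χ : IrrCharacter G, Squarefree (charDegree (χ : G → ℂ))) :
    derivedSeries G 2 ≤ Cfsg.fittingSubgroup G := by
  classical
  haveI hFn := Grp.fittingSubgroup_isNormal (G := G)
  set Q := G ⧸ Cfsg.fittingSubgroup G
  haveI : Group.IsSolvable Q := solvable_of_surjective (QuotientGroup.mk'_surjective _)
  set F₂ := Cfsg.fittingSubgroup Q
  haveI : F₂.Normal := Grp.fittingSubgroup_isNormal
  haveI : Group.IsNilpotent F₂ := Grp.fittingSubgroup_isNilpotent
  haveI : IsZGroup F₂ := ⟨fun p hp S => by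
    haveI := Fact.mk hp
    haveI hSc : (S : Subgroup F₂).Characteristic := S.characteristic_of_normal
      (Grp.isNilpotent_iff_sylow_normal.1 inferInstance p inferInstance S)
    have hle : (S : Subgroup F₂).map F₂.subtype ≤ Cfsg.pCore p Q :=
      Grp.le_pCore inferInstance (S.isPGroup'.map _)
    have hcard : Nat.card S ≤ p := by
      rw [← Subgroup.card_subtype F₂ (S : Subgroup F₂)]
      exact (Nat.le_of_dvd Nat.card_pos (Subgroup.card_dvd_of_le hle)).trans (card_pCore_le h p)
    obtain ⟨i, hi⟩ := IsPGroup.iff_card.1 S.isPGroup'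
    rcases Nat.lt_or_ge i 2 with hi2 | hi2
    · rcases Nat.lt_or_ge i 1 with hi1 | hi1
      · haveI : Subsingleton S := (Nat.card_eq_one_iff_unique.1 (by
          rw [hi, show i = 0 by omega, pow_zero])).1
        exact isCyclic_of_subsingleton
      · exact isCyclic_of_prime_card (p := p) (by rw [hi, show i = 1 by omega, pow_one])
    · exfalso
      have h2 : p ^ 2 ≤ p ^ i := Nat.pow_le_pow_right hp.pos hi2
      have h3 : p < p ^ 2 := by
        calc p = p ^ 1 := (pow_one p).symm
          _ < p ^ 2 := Nat.pow_lt_pow_right hp.one_lt (by omega)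
      omega⟩
  haveI : IsCyclic F₂ := inferInstance
  -- the quotient acts on a cyclic group with kernel inside it
  have hcomm : commutator Q ≤ F₂ := by
    rw [commutator_def, Subgroup.commutator_le]
    intro a _ b _
    refine Grp.centralizer_fittingSubgroup_le ?_
    have hab : (MulAut.conjNormal : Q →* MulAut F₂) ⁅a, b⁆ = 1 := by
      rw [map_commutatorElement, commutatorElement_eq_one_iff_mul_comm]
      exact (IsCyclic.mulAutMulEquiv F₂).injective (by rw [map_mul, map_mul, mul_comm])
    rw [Subgroup.mem_centralizer_iff]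
    intro z hz
    have h1 := congrArg Subtype.val (DFunLike.congr_fun hab ⟨z, hz⟩)
    rw [MulAut.conjNormal_apply] at h1
    exact (mul_inv_eq_iff_eq_mul.1 h1).symm
  refine ThreeDeg.derivedSeries_le_of_quotient _ ?_
  rw [derivedSeries_succ, derivedSeries_one, eq_bot_iff, Subgroup.commutator_le]
  intro a ha b hb
  rw [Subgroup.mem_bot, commutatorElement_eq_one_iff_mul_comm]
  exact congrArg Subtype.val ((IsCyclic.commGroup (α := F₂)).mul_comm ⟨a, hcomm ha⟩ ⟨b, hcomm hb⟩)

/-- Squarefree degrees give derived length at most four. -/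
theorem main (h : ∀ χ : IrrCharacter G, Squarefree (charDegree (χ : G → ℂ))) :
    derivedSeries G 4 = ⊥ := by
  classical
  haveI hFn := Grp.fittingSubgroup_isNormal (G := G)
  set F := Cfsg.fittingSubgroup G
  haveI := Fintype.ofFinite F
  haveI hnil : Group.IsNilpotent F := Grp.fittingSubgroup_isNilpotent
  have hdegF : ∀ θ : IrrCharacter F, Squarefree (charDegree (θ : F → ℂ)) := fun θ => by
    obtain ⟨χ, e, he, -⟩ := ThreeDeg.exists_over_deg F θ
    exact (h χ).squarefree_of_dvd ⟨e, by rw [he, mul_comm]⟩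
  have hn : ∀ {p : ℕ} [Fact p.Prime] (P : Sylow p F), (P : Subgroup F).Normal := fun {p} _ P =>
    Grp.isNilpotent_iff_sylow_normal.1 hnil p inferInstance P
  have hF2 : derivedSeries F 2 = ⊥ := by
    refine eq_bot_iff.2 fun g hg => Subgroup.mem_bot.2 ?_
    set e := Sylow.directProductOfNormal hn
    refine e.symm.injective ?_
    rw [map_one]
    funext q P
    haveI : Fact (q : ℕ).Prime := ⟨Nat.prime_of_mem_primeFactors q.2⟩
    haveI := hn P
    haveI := Fintype.ofFinite P
    have hP2 : derivedSeries P 2 = ⊥ := ThreeDeg.derived_two (m := (q : ℕ)) fun θ => by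
      obtain ⟨χ, c, hc, -⟩ := ThreeDeg.exists_over_deg (P : Subgroup F) θ
      obtain ⟨k, hk⟩ := IsPGroup.iff_card.1 P.isPGroup'
      obtain ⟨i, -, hi⟩ := (Nat.dvd_prime_pow (Fact.out : (q : ℕ).Prime)).1
        (hk ▸ IsIrr.degree_dvd_card θ.2 (charDeg_spec' θ))
      have hd := dvd_prime_of_squarefree (Fact.out : (q : ℕ).Prime) (i := i)
        (n := charDegree (χ : F → ℂ)) ⟨c, by rw [hc, hi, mul_comm]⟩ (hdegF χ)
      rw [← hi] at hd
      exact (Nat.dvd_prime Fact.out).1 hd
    let f : F →* P := ((Pi.evalMonoidHom (fun P : Sylow (q : ℕ) F => P) P).comp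
      (Pi.evalMonoidHom (fun q : (Nat.card F).primeFactors => ∀ P : Sylow (q : ℕ) F, P) q)).comp
      e.symm.toMonoidHom
    have h1 : f g ∈ derivedSeries P 2 := map_derivedSeries_le_derivedSeries f 2
      (Subgroup.mem_map_of_mem f hg)
    rw [hP2, Subgroup.mem_bot] at h1
    exact h1
  have h2 : derivedSeries G 2 ≤ (derivedSeries F 0).map F.subtype := by
    rw [derivedSeries_zero, ← MonoidHom.range_eq_map, Subgroup.range_subtype]
    exact derived_two_le_fitting h
  have h4 := ThreeDeg.series_succ (ThreeDeg.series_succ h2)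
  rw [hF2, Subgroup.map_bot] at h4
  exact eq_bot_iff.2 h4

end Cfsg.Agent.Block.SqfreeDeg
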